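import Cfsg.Agent.Lib.Sporadic.J4Pres.Small.Tree0

set_option autoImplicit false
set_option maxRecDepth 20000

/-! Generated certificate: group on x, v over the cyclic subgroup of x v (tools/cosetbound/gen_pairs.py; owner: helper21). -/

namespace CfsgLib.Sporadic.J4Pres.Small
open CfsgLib.Recog.SporBound (Q)

noncomputable def factTree : Q (ℕ) := (.node ft7 ft14 ft21 ft28)
noncomputable def nodeTree : Q (ℕ) := ct11
noncomputable def stepTree : Q (List ℕ) := (.node st7 st14 st21 st28)
noncomputable def finalTree : Q (List ℕ) := (.node et11 et23 et34 et45)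

/-- The certificate. -/
noncomputable def cert : CfsgLib.Sporadic.PairEnum.Cert where
  n := 1320
  nd := 1531
  nf := 3099
  nl := 4
  kl := [0, 2]
  facts := factTree
  cn := nodeTree
  steps := stepTree
  finals := finalTree
  rels := [[0, 0],
    [2, 2, 2],
    [0, 2, 0, 2, 0, 2, 0, 2, 0, 2, 0, 2, 0, 2, 0, 2, 0, 2, 0, 2, 0, 2, 0, 2],
    [0, 2, 0, 2, 0, 3, 0, 2, 0, 2, 0, 3, 0, 2, 0, 2, 0, 3, 0, 2, 0, 2, 0, 3]]
  subs := [[0, 2]]

/-- Traced words with their chains. -/
noncomputable def closers : List (List ℕ × ℕ) :=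
  []

end CfsgLib.Sporadic.J4Pres.Small
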